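import Groth.Agent.Lib.Unibr4.GoDown
import Groth.Agent.Lib.EquidimAt4

/-!
# Equidimensionality along a dominating component
-/

universe u

open CategoryTheory AlgebraicGeometry Topology TopologicalSpace Groth.Agent.FibDim14

set_option backward.isDefEq.respectTransparency.types false

namespace Groth.Agent.CondT

variable {X Y : Scheme.{u}} (f : X ⟶ Y) [LocallyOfFiniteType f]

/-- Equidimensionality at `w` from data on an open set. -/
theorem isEquidimAt_of_data {w : X} {O : X.Opens} (hw : w ∈ O) (e : ℕ)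
    (h1 : ∀ t ∈ O, (∀ y, y ⤳ t → y = t) → (∀ y, y ⤳ f t → y = f t) ∧ t ⤳ w)
    (h2 : ∀ a ∈ O, IsMaxFib f a → rd f a = e) : EGA43.IsEquidimAt f w := by
  refine ⟨e, O, hw, fun Z hZ => ?_, fun a Z hZ => ?_⟩
  · obtain ⟨t, rfl, ht⟩ := VarDim.exists_generic_of_mem_irreducibleComponents (X := (O : Scheme.{u})) hZ
    obtain ⟨hm, hsp⟩ := h1 (O.ι t) t.2 ((EquidimAt4.max_opens_iff t).1 ht)
    refine ⟨closure {f (O.ι t)}, (VarDim.maximal_iff_mem_irreducibleComponents (X := Y) _).1 hm,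
      specializes_iff_mem_closure.1 (hsp.map f.continuous), ?_⟩
    rw [closure_image_closure (O.ι ≫ f).continuous, Set.image_singleton, Scheme.Hom.comp_apply]
  · obtain ⟨z, rfl, hz⟩ := VarDim.exists_generic_of_mem_irreducibleComponents hZ
    let b := (O.ι ≫ f).fiberι _ z
    have hb : IsMaxFib (O.ι ≫ f) b := (isMaxFib_fiberι (O.ι ≫ f) _ z).2 hz
    refine (VarDim.dim_closure_singleton (toPt (O.ι ≫ f) _) z).trans ?_
    rw [← rd_fiberι, EquidimAt4.rd_openImmersion]
    exact congrArg Nat.cast (h2 _ b.2 ((EquidimAt4.isMaxFib_opens_iff f b).1 hb))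

/-- The condition (T) at `x`, from a dominating component with big generic fibre. -/
theorem condT {x t : X} (htx : t ⤳ x) (htmax : ∀ y, y ⤳ t → y = t) (hft : ∀ y, y ⤳ f t → y = f t)
    (hdim : FlatMor.fibreDimAt f x ≤ (rd f t : WithBot ℕ∞)) :
    ∃ W : TopologicalSpace.Closeds X, (W : Set X) ∈ irreducibleComponents (X : Type u) ∧
      ∃ w : ↥((Scheme.IdealSheafData.vanishingIdeal W).subscheme),
        (Scheme.IdealSheafData.vanishingIdeal W).subschemeι.base w = x ∧
        EGA43.IsEquidimAt ((Scheme.IdealSheafData.vanishingIdeal W).subschemeι ≫ f) w := by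
  let W : TopologicalSpace.Closeds X := ⟨closure {t}, isClosed_closure⟩
  refine ⟨W, (VarDim.maximal_iff_mem_irreducibleComponents (X := X) t).1 htmax, ?_⟩
  let j := (Scheme.IdealSheafData.vanishingIdeal W).subschemeι
  have hrange : Set.range j = closure {t} := by
    rw [Scheme.IdealSheafData.range_subschemeι, Scheme.IdealSheafData.coe_support_vanishingIdeal]; rfl
  obtain ⟨w, hw⟩ : x ∈ Set.range j := hrange ▸ specializes_iff_mem_closure.1 htx
  obtain ⟨g, hg⟩ : t ∈ Set.range j := hrange ▸ subset_closure rfl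
  refine ⟨w, hw, ?_⟩
  have hgz : ∀ z, g ⤳ z := fun z => by
    rw [← j.isEmbedding.isInducing.specializes_iff, hg, specializes_iff_mem_closure, ← hrange]
    exact ⟨z, rfl⟩
  have hrd : ∀ z, rd (j ≫ f) z = rd f (j z) := fun z => by
    rw [rd_comp, rd_of_surjectiveOnStalks j, add_zero]
  let O : (Scheme.IdealSheafData.vanishingIdeal W).subscheme.Opens := ⟨_, isOpen_fibreDimAt_le (j ≫ f) (rd f t)⟩
  have hwO : w ∈ O := by
    show FlatMor.fibreDimAt (j ≫ f) w ≤ (rd f t : WithBot ℕ∞)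
    obtain ⟨z, hz, hfz, hzm, hd⟩ := FibGen4.exists_isMaxFib (j ≫ f) w
    rw [← hd, FibGen4.fibreDimAt_eq_rd_of_isMaxFib _ hzm, hrd]
    refine le_trans ?_ hdim
    refine rd_le_fibreDimAt f (hw ▸ hz.map j.continuous) ?_
    rw [← hw]
    exact hfz
  refine isEquidimAt_of_data (j ≫ f) hwO (rd f t) (fun s _ hs => ?_) fun a ha hmax => ?_
  · obtain rfl : g = s := hs g (hgz s)
    refine ⟨?_, hgz w⟩
    rw [Scheme.Hom.comp_apply, hg]
    exact hft
  · have h3 : FlatMor.fibreDimAt (j ≫ f) a ≤ (rd f t : WithBot ℕ∞) := ha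
    rw [FibGen4.fibreDimAt_eq_rd_of_isMaxFib (j ≫ f) hmax] at h3
    refine le_antisymm (by exact_mod_cast h3) ?_
    have haS : a ∈ {b | FlatMor.fibreDimAt (j ≫ f) b ≤ (rd (j ≫ f) a : WithBot ℕ∞)} :=
      (FibGen4.fibreDimAt_eq_rd_of_isMaxFib (j ≫ f) hmax).le
    have := (fibreDimAt_le_iff (j ≫ f)).1 ((hgz a).mem_open (isOpen_fibreDimAt_le (j ≫ f) _) haS) g
      specializes_rfl rfl
    rwa [hrd g, hg] at this

end Groth.Agent.CondT
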