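import Groth.Agent.Lib.CondT.Basic

/-!
# Data from equidimensionality
-/

universe u

open CategoryTheory AlgebraicGeometry Topology TopologicalSpace Groth.Agent.FibDim14

set_option backward.isDefEq.respectTransparency.types false

namespace Groth.Agent.CondT

variable {X Y : Scheme.{u}} (f : X ⟶ Y) [LocallyOfFiniteType f]

/-- Equidimensional at `x`: maximal points above it dominate, and all residual degrees near it agree. -/
theorem exists_data {x : X} (h : EGA43.IsEquidimAt f x) : ∃ (e : ℕ) (U : X.Opens), x ∈ U ∧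
    (∀ t ∈ U, (∀ y, y ⤳ t → y = t) → ∀ y, y ⤳ f t → y = f t) ∧ (∀ a ∈ U, IsMaxFib f a → rd f a = e) := by
  obtain ⟨e, U, hxU, hcomp, hdim⟩ := h
  refine ⟨e, U, hxU, fun t ht htmax => ?_, fun a ha hmax => ?_⟩
  · obtain ⟨W, hW, -, hWeq⟩ := hcomp _ ((VarDim.maximal_iff_mem_irreducibleComponents (X := (U : Scheme.{u})) ⟨t, ht⟩).1
      ((EquidimAt4.max_opens_iff ⟨t, ht⟩).2 htmax))
    rw [closure_image_closure (U.ι ≫ f).continuous, Set.image_singleton] at hWeq
    exact (VarDim.maximal_iff_mem_irreducibleComponents (X := Y) (f t)).2 (hWeq ▸ hW)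
  · let w : (U : Scheme.{u}) := ⟨a, ha⟩
    have hz := (isMaxFib_fiberι (U.ι ≫ f) _ ((U.ι ≫ f).asFiber w)).1
      (by rw [Scheme.Hom.fiberι_asFiber]; exact (EquidimAt4.isMaxFib_opens_iff f w).2 hmax)
    have h3 := hdim w _ ((VarDim.maximal_iff_mem_irreducibleComponents (X := (U.ι ≫ f).fiber _) _).1 hz)
    rw [VarDim.dim_closure_singleton (toPt (U.ι ≫ f) _), ← rd_fiberι,
      Scheme.Hom.fiberι_asFiber, EquidimAt4.rd_openImmersion] at h3
    exact_mod_cast h3

theorem condT_of_isEquidimAt {x : X} (h : EGA43.IsEquidimAt f x) :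
    ∃ W : TopologicalSpace.Closeds X, (W : Set X) ∈ irreducibleComponents (X : Type u) ∧
      ∃ w : ↥((Scheme.IdealSheafData.vanishingIdeal W).subscheme),
        (Scheme.IdealSheafData.vanishingIdeal W).subschemeι.base w = x ∧
        EGA43.IsEquidimAt ((Scheme.IdealSheafData.vanishingIdeal W).subschemeι ≫ f) w := by
  obtain ⟨e, U, hxU, h1, h2⟩ := exists_data f h
  obtain ⟨t, htx, ht⟩ := EquidimAt4.exists_max_specializes x
  have htU : t ∈ U := htx.mem_open U.2 hxU
  refine condT f htx ht (h1 t htU ht) ?_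
  obtain ⟨z, hz, -, hzm, hd⟩ := FibGen4.exists_isMaxFib f x
  rw [← hd, FibGen4.fibreDimAt_eq_rd_of_isMaxFib f hzm, h2 z (hz.mem_open U.2 hxU) hzm,
    h2 t htU fun y hy _ => ht y hy]

/-- It suffices to have condition (T) at the maximal points of the fibres. -/
theorem condT_of_fibre_max
    (h : ∀ x : X, (∀ x' : X, f.base x' = f.base x → x ∈ closure ({x'} : Set X) → x' = x) →
      ∃ W : TopologicalSpace.Closeds X, (W : Set X) ∈ irreducibleComponents (X : Type u) ∧
      ∃ w : ↥((Scheme.IdealSheafData.vanishingIdeal W).subscheme),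
        (Scheme.IdealSheafData.vanishingIdeal W).subschemeι.base w = x ∧
        EGA43.IsEquidimAt ((Scheme.IdealSheafData.vanishingIdeal W).subschemeι ≫ f) w) (x : X) :
    ∃ W : TopologicalSpace.Closeds X, (W : Set X) ∈ irreducibleComponents (X : Type u) ∧
      ∃ w : ↥((Scheme.IdealSheafData.vanishingIdeal W).subscheme),
        (Scheme.IdealSheafData.vanishingIdeal W).subschemeι.base w = x ∧
        EGA43.IsEquidimAt ((Scheme.IdealSheafData.vanishingIdeal W).subschemeι ≫ f) w := by
  obtain ⟨z, hzx, hfz, hzm, hd⟩ := FibGen4.exists_isMaxFib f x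
  obtain ⟨W, hW, w, hw, hwe⟩ := h z fun x' he hcl => hzm x' (specializes_iff_mem_closure.2 hcl) he
  let j := (Scheme.IdealSheafData.vanishingIdeal W).subschemeι
  obtain ⟨e, U, hwU, h1, h2⟩ := exists_data (j ≫ f) hwe
  obtain ⟨g, hg, hgm⟩ := EquidimAt4.exists_max_specializes w
  have hrd : ∀ a, rd (j ≫ f) a = rd f (j a) := fun a => by
    rw [rd_comp, rd_of_surjectiveOnStalks j, add_zero]
  have hrange : Set.range j = (W : Set X) := by
    rw [Scheme.IdealSheafData.range_subschemeι, Scheme.IdealSheafData.coe_support_vanishingIdeal]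
  obtain ⟨t, ht, htm⟩ := VarDim.exists_generic_of_mem_irreducibleComponents hW
  obtain ⟨t', ht'⟩ : t ∈ Set.range j := hrange.symm ▸ ht ▸ subset_closure rfl
  have hgt : t' = g := hgm t' <| by
    rw [← j.isEmbedding.isInducing.specializes_iff, ht', specializes_iff_mem_closure, ht, ← hrange]
    exact ⟨g, rfl⟩
  subst hgt
  have htz : t ⤳ z := hw ▸ ht' ▸ hg.map j.continuous
  refine condT f (htz.trans hzx) htm ?_ ?_
  · have := h1 t' (hg.mem_open U.2 hwU) hgm
    rwa [Scheme.Hom.comp_apply, ht'] at this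
  · rw [← hd, FibGen4.fibreDimAt_eq_rd_of_isMaxFib f hzm]
    have e1 : rd (j ≫ f) w = e := h2 w hwU fun y hy he => by
      refine j.isEmbedding.injective ?_
      have := hy.map j.continuous
      rw [Scheme.Hom.comp_apply, Scheme.Hom.comp_apply] at he
      change j y = j w
      change j w = z at hw
      rw [hw] at this he ⊢
      exact hzm _ this he
    have e2 : rd (j ≫ f) t' = e := h2 t' (hg.mem_open U.2 hwU) fun y hy _ => hgm y hy
    rw [hrd, ht'] at e2
    rw [hrd, show j w = z from hw] at e1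
    rw [e1, e2]

end Groth.Agent.CondT
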