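import Mathlib.RingTheory.TensorProduct.MvPolynomial
import Mathlib.RingTheory.Valuation.LocalSubring
import Mathlib.RingTheory.LocalRing.ResidueField.Ideal
import Mathlib.RingTheory.Spectrum.Prime.Topology
import Mathlib.RingTheory.Flat.Basic

/-!
# Lifting algebraically independent residues along universally generalizing maps
-/

universe u

open TensorProduct PrimeSpectrum

namespace Groth.Agent.CondT

theorem exists_coeff_dvd {V : Type*} [CommRing V] [PreValuationRing V] {ι : Type*} (s : Finset ι) (hs : s.Nonempty)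
    (c : ι → V) : ∃ m ∈ s, ∀ i ∈ s, c m ∣ c i := by
  classical
  induction hs using Finset.Nonempty.cons_induction with
  | singleton a => exact ⟨a, by simp, by simp⟩
  | cons a s ha hs ih =>
    obtain ⟨m, hm, hdiv⟩ := ih
    rcases ValuationRing.dvd_total (c a) (c m) with h | h
    · refine ⟨a, by simp, fun i hi => ?_⟩
      rcases Finset.mem_cons.1 hi with rfl | hi
      · exact dvd_rfl
      · exact h.trans (hdiv i hi)
    · refine ⟨m, by simp [hm], fun i hi => ?_⟩
      rcases Finset.mem_cons.1 hi with rfl | hi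
      · exact h
      · exact hdiv i hi

/-- Over a valuation ring, residual independence passes to the generic fibre. -/
theorem eq_zero_of_mem {V B : Type*} [CommRing V] [IsDomain V] [ValuationRing V] [CommRing B] [Algebra V B]
    {σ : Type*} (a : σ → B) {P P' : Ideal B} [P'.IsPrime] (hle : P' ≤ P) (h0 : P'.comap (algebraMap V B) = ⊥)
    (hind : ∀ F : MvPolynomial σ V, MvPolynomial.aeval a F ∈ P → ∀ m, F.coeff m ∈ IsLocalRing.maximalIdeal V)
    (F : MvPolynomial σ V) (hF : MvPolynomial.aeval a F ∈ P') : F = 0 := by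
  by_contra hne
  obtain ⟨m, hm, hdiv⟩ := exists_coeff_dvd F.support (MvPolynomial.support_nonempty.2 hne) F.coeff
  have hc : F.coeff m ≠ 0 := MvPolynomial.mem_support_iff.1 hm
  obtain ⟨G, hG⟩ := (MvPolynomial.C_dvd_iff_dvd_coeff (F.coeff m) F).2 fun i => by
    by_cases hi : i ∈ F.support
    · exact hdiv i hi
    · rw [MvPolynomial.notMem_support_iff.1 hi]; exact dvd_zero _
  have hG1 : G.coeff m = 1 := by
    have := congrArg (MvPolynomial.coeff m) hG
    rw [MvPolynomial.coeff_C_mul] at this
    exact mul_left_cancel₀ hc (by rw [mul_one]; exact this.symm)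
  rw [hG, map_mul, MvPolynomial.aeval_C] at hF
  rcases Ideal.IsPrime.mem_or_mem inferInstance hF with h | h
  · exact hc (by rwa [← Ideal.mem_comap, h0, Ideal.mem_bot] at h)
  · have := hind G (hle h) m
    rw [hG1] at this
    exact (IsLocalRing.maximalIdeal.isMaximal V).ne_top ((Ideal.eq_top_iff_one _).2 this)

/-- independence over the residue field -/
theorem injective_aeval_residueField {A B : Type u} [CommRing A] [CommRing B] [Algebra A B] (p : Ideal A) [p.IsPrime]
    (q : Ideal B) [q.IsPrime] [Algebra p.ResidueField q.ResidueField]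
    (hcompat : ∀ r : A, algebraMap p.ResidueField q.ResidueField (algebraMap A p.ResidueField r) =
      algebraMap B q.ResidueField (algebraMap A B r))
    {σ : Type*} (a : σ → B) (ha : ∀ F : MvPolynomial σ A, MvPolynomial.aeval a F ∈ q → ∀ m, F.coeff m ∈ p) :
    Function.Injective (MvPolynomial.aeval (R := p.ResidueField) (fun i => algebraMap B q.ResidueField (a i))) := by
  classical
  rw [injective_iff_map_eq_zero]
  intro F hF
  obtain ⟨b, hb⟩ := IsLocalization.exist_integer_multiples (nonZeroDivisors (A ⧸ p)) F.support F.coeff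
  obtain ⟨r, hr⟩ := Ideal.Quotient.mk_surjective (b : A ⧸ p)
  have hrp : algebraMap A p.ResidueField r ≠ 0 := by
    rw [ne_eq, Ideal.algebraMap_residueField_eq_zero, ← Ideal.Quotient.eq_zero_iff_mem, hr]
    exact nonZeroDivisors.coe_ne_zero b
  have hmem : ∀ m, ∃ z : A, algebraMap A p.ResidueField z = algebraMap A p.ResidueField r * F.coeff m := by
    intro m
    by_cases hm : m ∈ F.support
    · obtain ⟨w, hw⟩ := hb m hm
      obtain ⟨z, rfl⟩ := Ideal.Quotient.mk_surjective w
      refine ⟨z, ?_⟩
      rw [← Ideal.algebraMap_quotient_residueField_mk, hw, Algebra.smul_def, ← hr,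
        Ideal.algebraMap_quotient_residueField_mk]
    · exact ⟨0, by rw [map_zero, MvPolynomial.notMem_support_iff.1 hm, mul_zero]⟩
  choose z hz using hmem
  let G : MvPolynomial σ A := ∑ m ∈ F.support, MvPolynomial.monomial m (z m)
  have hmap : MvPolynomial.map (algebraMap A p.ResidueField) G =
      MvPolynomial.C (algebraMap A p.ResidueField r) * F := by
    conv_rhs => rw [F.as_sum, Finset.mul_sum]
    simp only [G, map_sum, MvPolynomial.map_monomial, hz, MvPolynomial.C_mul_monomial]
  have key : MvPolynomial.aeval (R := p.ResidueField) (fun i => algebraMap B q.ResidueField (a i))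
      (MvPolynomial.map (algebraMap A p.ResidueField) G) =
      algebraMap B q.ResidueField (MvPolynomial.aeval a G) := by
    rw [MvPolynomial.aeval_def, MvPolynomial.eval₂_map, MvPolynomial.aeval_def, MvPolynomial.eval₂_comp_left]
    congr 1
    exact RingHom.ext hcompat
  have hq : MvPolynomial.aeval a G ∈ q := by
    rw [← Ideal.algebraMap_residueField_eq_zero, ← key, hmap, map_mul, hF, mul_zero]
  ext m
  have h1 : algebraMap A p.ResidueField (G.coeff m) = algebraMap A p.ResidueField r * F.coeff m := by
    rw [← MvPolynomial.coeff_map, hmap, MvPolynomial.coeff_C_mul]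
  rw [Ideal.algebraMap_residueField_eq_zero.2 (ha G hq m)] at h1
  rw [MvPolynomial.coeff_zero]
  exact (mul_eq_zero.1 h1.symm).resolve_left hrp

/-- EGA IV 14.3: independent residues at `q` lift over a generization of the base. -/
theorem exists_le_indep {A B : Type u} [CommRing A] [CommRing B] [Algebra A B] (q : Ideal B) [q.IsPrime]
    (q0 : Ideal A) [q0.IsPrime] (hq0 : q0 ≤ q.comap (algebraMap A B)) {σ : Type} (a : σ → B)
    (ha : ∀ F : MvPolynomial σ A, MvPolynomial.aeval a F ∈ q → ∀ m, F.coeff m ∈ q.comap (algebraMap A B))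
    (hgd : ∀ (V : Type u) [CommRing V] [Algebra A V], GeneralizingMap (comap (algebraMap V (V ⊗[A] B)))) :
    ∃ t : Ideal B, t.IsPrime ∧ t ≤ q ∧ t.comap (algebraMap A B) = q0 ∧
      ∀ F : MvPolynomial σ A, MvPolynomial.aeval a F ∈ t → ∀ m, F.coeff m ∈ q0 := by
  classical
  set p := q.comap (algebraMap A B) with hp
  haveI : p.IsPrime := Ideal.comap_isPrime _ _
  let K := q0.ResidueField
  have hu : ∀ s : p.primeCompl, IsUnit (algebraMap A K s) := fun s =>
    isUnit_iff_ne_zero.2 fun h => s.2 (hq0 (Ideal.algebraMap_residueField_eq_zero.1 h))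
  let f : Localization.AtPrime p →+* K := IsLocalization.lift (M := p.primeCompl) (S := Localization.AtPrime p) hu
  obtain ⟨V, hV, hloc⟩ := IsLocalRing.exists_factor_valuationRing f
  let g : Localization.AtPrime p →+* V := f.codRestrict V.toSubring hV
  haveI : IsLocalHom g := hloc
  letI algV : Algebra A V := (g.comp (algebraMap A (Localization.AtPrime p))).toAlgebra
  have hker : RingHom.ker (algebraMap A V) = q0 := by
    ext r
    rw [RingHom.mem_ker, ← Ideal.algebraMap_residueField_eq_zero, Subtype.ext_iff]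
    show f (algebraMap A _ r) = 0 ↔ _
    rw [IsLocalization.lift_eq]
  let kV := IsLocalRing.ResidueField V
  letI : Algebra p.ResidueField kV := (IsLocalRing.ResidueField.map g).toAlgebra
  letI : Algebra p.ResidueField q.ResidueField := (Ideal.ResidueField.map p q (algebraMap A B) rfl).toAlgebra
  have hcompat : ∀ r : A, algebraMap p.ResidueField q.ResidueField (algebraMap A p.ResidueField r) =
      algebraMap B q.ResidueField (algebraMap A B r) := fun r => Ideal.ResidueField.map_algebraMap p q _ rfl r
  have hinj := injective_aeval_residueField p q hcompat a ha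
  have hkV : ∀ r : A, algebraMap p.ResidueField kV (algebraMap A p.ResidueField r) =
      IsLocalRing.residue V (algebraMap A V r) := fun r => by
    rw [IsScalarTower.algebraMap_apply A (Localization.AtPrime p) p.ResidueField]
    rfl
  let C := kV ⊗[p.ResidueField] q.ResidueField
  let iv : V →+* C := (algebraMap kV C).comp (IsLocalRing.residue V)
  let ib : B →+* C :=
    (Algebra.TensorProduct.includeRight : q.ResidueField →ₐ[p.ResidueField] C).toRingHom.comp
      (algebraMap B q.ResidueField)
  haveI : IsScalarTower A p.ResidueField kV := IsScalarTower.of_algebraMap_eq fun r => (hkV r).symm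
  let ivA : V →ₐ[A] C := { iv with commutes' := fun r => rfl }
  let ibA : B →ₐ[A] C :=
    { ib with
      commutes' := fun r => by
        show (1 : kV) ⊗ₜ[p.ResidueField] algebraMap B q.ResidueField (algebraMap A B r) =
          (IsLocalRing.residue V (algebraMap A V r)) ⊗ₜ[p.ResidueField] (1 : q.ResidueField)
        rw [← hcompat, ← hkV, Algebra.algebraMap_eq_smul_one, Algebra.algebraMap_eq_smul_one (A := kV),
          TensorProduct.tmul_smul, TensorProduct.smul_tmul'] }
  let ψ : V ⊗[A] B →ₐ[A] C := Algebra.TensorProduct.lift ivA ibA fun _ _ => Commute.all _ _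
  let a' : σ → C := fun i => ib (a i)
  have hinjC : Function.Injective (MvPolynomial.aeval (R := kV) a') := by
    have e : MvPolynomial.aeval (R := kV) a' = (Algebra.TensorProduct.map (AlgHom.id kV kV)
        (MvPolynomial.aeval (R := p.ResidueField) (fun i => algebraMap B q.ResidueField (a i)))).comp
        (MvPolynomial.algebraTensorAlgEquiv p.ResidueField kV).symm.toAlgHom := by
      refine MvPolynomial.algHom_ext fun i => ?_
      have : (MvPolynomial.algebraTensorAlgEquiv p.ResidueField kV).symm (MvPolynomial.X i) =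
          (1 : kV) ⊗ₜ[p.ResidueField] (MvPolynomial.X i : MvPolynomial σ p.ResidueField) := by
        rw [AlgEquiv.symm_apply_eq, MvPolynomial.algebraTensorAlgEquiv_tmul, one_smul, MvPolynomial.map_X]
      show _ = Algebra.TensorProduct.map (AlgHom.id kV kV)
        (MvPolynomial.aeval (R := p.ResidueField) (fun i => algebraMap B q.ResidueField (a i)))
        ((MvPolynomial.algebraTensorAlgEquiv p.ResidueField kV).symm (MvPolynomial.X i))
      rw [this, Algebra.TensorProduct.map_tmul, MvPolynomial.aeval_X, MvPolynomial.aeval_X]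
      rfl
    rw [e, AlgHom.coe_comp]
    refine Function.Injective.comp ?_ (MvPolynomial.algebraTensorAlgEquiv p.ResidueField kV).symm.injective
    exact Module.Flat.lTensor_preserves_injective_linearMap (M := kV)
      (MvPolynomial.aeval (R := p.ResidueField) (fun i => algebraMap B q.ResidueField (a i))).toLinearMap hinj
  let S : Submonoid C := (nonZeroDivisors (MvPolynomial σ kV)).map (MvPolynomial.aeval (R := kV) a')
  obtain ⟨P, hP, -, hdisj⟩ := Ideal.exists_le_prime_disjoint (⊥ : Ideal C) S <| by
    rw [Set.disjoint_left]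
    rintro x hx ⟨F, hF, rfl⟩
    exact nonZeroDivisors.ne_zero hF (hinjC (by rw [map_zero]; exact hx))
  have hPF : ∀ F, MvPolynomial.aeval (R := kV) a' F ∈ P → F = 0 := fun F hF => by
    by_contra hne
    exact Set.disjoint_left.1 hdisj hF ⟨F, mem_nonZeroDivisors_of_ne_zero hne, rfl⟩
  let Q : Ideal (V ⊗[A] B) := P.comap ψ
  haveI : Q.IsPrime := Ideal.comap_isPrime _ _
  have hind : ∀ F : MvPolynomial σ V, MvPolynomial.aeval (fun i => (1 : V) ⊗ₜ[A] a i) F ∈ Q →
      ∀ m, F.coeff m ∈ IsLocalRing.maximalIdeal V := by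
    intro F hF m
    have h1 : ψ (MvPolynomial.aeval (fun i => (1 : V) ⊗ₜ[A] a i) F) =
        MvPolynomial.aeval (R := kV) a' (MvPolynomial.map (IsLocalRing.residue V) F) := by
      rw [MvPolynomial.aeval_def, ← AlgHom.coe_toRingHom, MvPolynomial.eval₂_comp_left, MvPolynomial.aeval_def,
        MvPolynomial.eval₂_map]
      congr 1
      · refine RingHom.ext fun v => ?_
        show ψ (v ⊗ₜ[A] (1 : B)) = _
        rw [Algebra.TensorProduct.lift_tmul, map_one, mul_one]
        rfl
      · funext i
        show ψ ((1 : V) ⊗ₜ[A] a i) = a' i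
        rw [Algebra.TensorProduct.lift_tmul, map_one, one_mul]
        rfl
    have h2 := hPF _ (h1 ▸ (Ideal.mem_comap.1 hF))
    rw [← IsLocalRing.residue_eq_zero_iff, ← MvPolynomial.coeff_map, h2, MvPolynomial.coeff_zero]
  have hQV : Q.comap (algebraMap V (V ⊗[A] B)) = IsLocalRing.maximalIdeal V := by
    refine le_antisymm (IsLocalRing.le_maximalIdeal (Ideal.IsPrime.ne_top inferInstance)) fun v hv => ?_
    show ψ (v ⊗ₜ[A] (1 : B)) ∈ P
    rw [Algebra.TensorProduct.lift_tmul, map_one, mul_one]
    show algebraMap kV C (IsLocalRing.residue V v) ∈ P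
    rw [(IsLocalRing.residue_eq_zero_iff v).2 hv, map_zero]
    exact P.zero_mem
  obtain ⟨Q', hQ'Q, hQ'0⟩ := hgd V (a := (⟨Q, inferInstance⟩ : PrimeSpectrum (V ⊗[A] B)))
    (b := (⟨⊥, Ideal.isPrime_bot⟩ : PrimeSpectrum V))
    ((PrimeSpectrum.le_iff_specializes (⟨⊥, Ideal.isPrime_bot⟩ : PrimeSpectrum V)
      (comap (algebraMap V (V ⊗[A] B)) ⟨Q, inferInstance⟩)).1 bot_le)
  haveI : Q'.asIdeal.IsPrime := Q'.2
  have hle : Q'.asIdeal ≤ Q := (PrimeSpectrum.le_iff_specializes Q' ⟨Q, inferInstance⟩).2 hQ'Q
  have h0 : Q'.asIdeal.comap (algebraMap V (V ⊗[A] B)) = ⊥ := congrArg PrimeSpectrum.asIdeal hQ'0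
  let inR : B →ₐ[A] V ⊗[A] B := Algebra.TensorProduct.includeRight
  refine ⟨Q'.asIdeal.comap inR, Ideal.comap_isPrime _ _, fun b hb => ?_, ?_, fun F hF m => ?_⟩
  · have h1 : ψ ((1 : V) ⊗ₜ[A] b) ∈ P := hle hb
    rw [Algebra.TensorProduct.lift_tmul, map_one, one_mul] at h1
    by_contra hbq
    refine hP.ne_top (Ideal.eq_top_of_isUnit_mem _ h1 ?_)
    refine (isUnit_iff_ne_zero.2 fun h => hbq ?_).map
      (Algebra.TensorProduct.includeRight : q.ResidueField →ₐ[p.ResidueField] C)
    exact Ideal.algebraMap_residueField_eq_zero.1 h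
  · refine Eq.trans ?_ hker
    ext r
    show inR (algebraMap A B r) ∈ Q'.asIdeal ↔ _
    rw [AlgHom.commutes, IsScalarTower.algebraMap_apply A V (V ⊗[A] B), ← Ideal.mem_comap, h0, Ideal.mem_bot,
      RingHom.mem_ker]
  · have h1 : MvPolynomial.aeval (fun i => (1 : V) ⊗ₜ[A] a i) (MvPolynomial.map (algebraMap A V) F) ∈ Q'.asIdeal := by
      rw [MvPolynomial.aeval_def, MvPolynomial.eval₂_map, ← IsScalarTower.algebraMap_eq A V (V ⊗[A] B),
        ← MvPolynomial.aeval_def, show (fun i => (1 : V) ⊗ₜ[A] a i) = fun i => inR (a i) from rfl,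
        ← MvPolynomial.comp_aeval_apply]
      exact hF
    have h2 := eq_zero_of_mem (fun i => (1 : V) ⊗ₜ[A] a i) hle h0 hind _ h1
    rw [← hker, RingHom.mem_ker, ← MvPolynomial.coeff_map, h2, MvPolynomial.coeff_zero]

end Groth.Agent.CondT
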