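import Groth.Agent.Lib.CondT.Basic
import Groth.Agent.Lib.CondT.LiftIndep
import Groth.Agent.Lib.DimFormula14.Scheme
import Groth.Agent.Lib.EGA43Top.OpenCriterion
import Mathlib.AlgebraicGeometry.Morphisms.UniversallyOpen

/-!
# Universally open morphisms satisfy condition (T)
-/

universe u

open CategoryTheory AlgebraicGeometry Topology TopologicalSpace Groth.Agent.FibDim14
open scoped TensorProduct

set_option backward.isDefEq.respectTransparency.types false

namespace Groth.Agent.CondT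

theorem generalizingMap_tensor {A B : CommRingCat.{u}} (φ : A ⟶ B) [UniversallyOpen (Spec.map φ)] :
    letI := φ.hom.toAlgebra
    ∀ (V : Type u) [CommRing V] [Algebra A V],
      GeneralizingMap (PrimeSpectrum.comap (algebraMap V (V ⊗[A] B))) := by
  letI := φ.hom.toAlgebra
  intro V _ _
  have sq : IsPushout (CommRingCat.ofHom (algebraMap A V)) φ
      (CommRingCat.ofHom (algebraMap V (V ⊗[A] B)))
      (CommRingCat.ofHom (Algebra.TensorProduct.includeRight : B →ₐ[A] V ⊗[A] B).toRingHom) :=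
    CommRingCat.isPushout_tensorProduct A V B
  have hp := isPullback_SpecMap_of_isPushout _ _ _ _ sq.flip
  haveI : UniversallyOpen (Spec.map (CommRingCat.ofHom (algebraMap V (V ⊗[A] B)))) :=
    MorphismProperty.of_isPullback hp ‹_›
  intro a b hab
  obtain ⟨x', hx', he⟩ := EGA43Top.liftsAt_of_isOpenAt
    (f := Spec.map (CommRingCat.ofHom (algebraMap V (V ⊗[A] B)))) (x := a)
    (fun U hU => (Spec.map (CommRingCat.ofHom (algebraMap V (V ⊗[A] B)))).isOpenMap.image_mem_nhds hU) b hab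
  exact ⟨x', hx', he⟩

variable {X Y : Scheme.{u}} (f : X ⟶ Y) [LocallyOfFiniteType f]

/-- Generizations lift with at least the same residual degree. -/
theorem exists_lift_rd_ge [UniversallyOpen f] (x : X) {r : Y} (hr : r ⤳ f x) :
    ∃ x₁, x₁ ⤳ x ∧ f x₁ = r ∧ rd f x ≤ rd f x₁ := by
  obtain ⟨V, hV, hyV, -⟩ := exists_isAffineOpen_mem_and_subset (U := (⊤ : Y.Opens)) (x := f x) trivial
  obtain ⟨U, hU, hxU, hUV⟩ := exists_isAffineOpen_mem_and_subset (U := f ⁻¹ᵁ V) (x := x) hyV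
  have hUV : U ≤ f ⁻¹ᵁ V := hUV
  let φ := f.appLE V U hUV
  haveI : UniversallyOpen (Spec.map φ) := by
    have h1 : UniversallyOpen (Spec.map φ ≫ hV.fromSpec) := by
      rw [IsAffineOpen.SpecMap_appLE_fromSpec f hV hU hUV]; infer_instance
    exact MorphismProperty.of_isPullback
      (IsPullback.of_horiz_isIso_mono (fst := 𝟙 _) (snd := Spec.map φ) (f := Spec.map φ ≫ hV.fromSpec)
        (g := hV.fromSpec) ⟨by simp⟩) h1
  letI : Algebra Γ(Y, V) Γ(X, U) := φ.hom.toAlgebra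
  let q := (hU.primeIdealOf ⟨x, hxU⟩).asIdeal
  haveI : q.IsPrime := (hU.primeIdealOf ⟨x, hxU⟩).2
  have hrV : r ∈ V := hr.mem_open V.2 hyV
  let q0 := (hV.primeIdealOf ⟨r, hrV⟩).asIdeal
  haveI : q0.IsPrime := (hV.primeIdealOf ⟨r, hrV⟩).2
  let p := (hV.primeIdealOf ⟨f x, hUV hxU⟩).asIdeal
  have hp : p = q.comap (algebraMap Γ(Y, V) Γ(X, U)) :=
    congrArg PrimeSpectrum.asIdeal (IsAffineOpen.comap_primeIdealOf_appLE V hV U hU hUV hxU).symm
  have hq0 : q0 ≤ q.comap (algebraMap Γ(Y, V) Γ(X, U)) :=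
    hp ▸ (VarDim.primeIdealOf_le_iff hV ⟨r, hrV⟩ ⟨f x, hUV hxU⟩).2 hr
  haveI : q.LiesOver p := ⟨hp⟩
  haveI : p.IsPrime := (hV.primeIdealOf ⟨f x, hUV hxU⟩).2
  haveI := DimFormula14.faithfulSMul_quotient p q
  have htr : Algebra.trdeg (Γ(Y, V) ⧸ p) (Γ(X, U) ⧸ q) = (rd f x : Cardinal) :=
    (DimFormula14.rdeg_eq_trdeg f hU hV hUV hxU).trans (rdeg_eq_rd f x)
  obtain ⟨ι, b, hb⟩ := exists_isTranscendenceBasis' (Γ(Y, V) ⧸ p) (Γ(X, U) ⧸ q)
  have hι : Cardinal.mk ι = (rd f x : Cardinal) := hb.cardinalMk_eq_trdeg.trans htr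
  obtain ⟨eι⟩ : Nonempty (ι ≃ Fin (rd f x)) := by
    rw [← Cardinal.lift_mk_eq']
    simp [hι]
  choose a ha using fun i => Ideal.Quotient.mk_surjective (I := q) (b (eι.symm i))
  have hind : ∀ F : MvPolynomial (Fin (rd f x)) Γ(Y, V), MvPolynomial.aeval a F ∈ q →
      ∀ m, F.coeff m ∈ q.comap (algebraMap Γ(Y, V) Γ(X, U)) := by
    intro F hF m
    have h1 : MvPolynomial.aeval (R := Γ(Y, V) ⧸ p) (fun i => b (eι.symm i))
        (MvPolynomial.map (Ideal.Quotient.mk p) F) = 0 := by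
      rw [MvPolynomial.aeval_def, MvPolynomial.eval₂_map]
      have h2 := (Ideal.Quotient.eq_zero_iff_mem).2 hF
      rw [MvPolynomial.aeval_def, MvPolynomial.eval₂_comp_left] at h2
      rw [show (fun i => b (eι.symm i)) = Ideal.Quotient.mk q ∘ a from funext fun i => (ha i).symm]
      exact h2
    have h3 := (hb.1.comp eι.symm eι.symm.injective).eq_zero_of_aeval_eq_zero _ h1
    rw [← hp, ← Ideal.Quotient.eq_zero_iff_mem, ← MvPolynomial.coeff_map, h3, MvPolynomial.coeff_zero]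
  obtain ⟨t, htp, htq, ht0, htind⟩ := exists_le_indep q q0 hq0 a hind (generalizingMap_tensor φ)
  let T : Spec Γ(X, U) := ⟨t, htp⟩
  have hTU : hU.fromSpec T ∈ U := hU.range_fromSpec.le ⟨T, rfl⟩
  have hprimeT : hU.primeIdealOf ⟨hU.fromSpec T, hTU⟩ = T :=
    hU.fromSpec.isOpenEmbedding.injective (hU.fromSpec_primeIdealOf _)
  have hTx : hU.fromSpec T ⤳ x := by
    refine (VarDim.primeIdealOf_le_iff hU ⟨_, hTU⟩ ⟨x, hxU⟩).1 ?_
    rw [hprimeT]
    exact htq
  have hfT : hV.primeIdealOf ⟨f (hU.fromSpec T), hUV hTU⟩ = hV.primeIdealOf ⟨r, hrV⟩ := by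
    refine PrimeSpectrum.ext ?_
    rw [← IsAffineOpen.comap_primeIdealOf_appLE V hV U hU hUV hTU, hprimeT]
    exact ht0
  have hfTr : f (hU.fromSpec T) = r := by
    have := congrArg hV.fromSpec hfT
    rwa [hV.fromSpec_primeIdealOf, hV.fromSpec_primeIdealOf] at this
  refine ⟨hU.fromSpec T, hTx, hfTr, ?_⟩
  let P' := (hV.primeIdealOf ⟨f (hU.fromSpec T), hUV hTU⟩).asIdeal
  let Q' := (hU.primeIdealOf ⟨hU.fromSpec T, hTU⟩).asIdeal
  haveI : P'.IsPrime := (hV.primeIdealOf ⟨f (hU.fromSpec T), hUV hTU⟩).2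
  haveI : Q'.IsPrime := (hU.primeIdealOf ⟨hU.fromSpec T, hTU⟩).2
  haveI : Q'.LiesOver P' :=
    ⟨congrArg PrimeSpectrum.asIdeal (IsAffineOpen.comap_primeIdealOf_appLE V hV U hU hUV hTU).symm⟩
  have htr' : Algebra.trdeg (Γ(Y, V) ⧸ P') (Γ(X, U) ⧸ Q') = (rd f (hU.fromSpec T) : Cardinal) :=
    (DimFormula14.rdeg_eq_trdeg f hU hV hUV hTU).trans (rdeg_eq_rd f _)
  have hli : AlgebraicIndependent (Γ(Y, V) ⧸ P') (fun i => Ideal.Quotient.mk Q' (a i)) := by
    rw [algebraicIndependent_iff]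
    intro G hG
    obtain ⟨F, rfl⟩ := MvPolynomial.map_surjective _ Ideal.Quotient.mk_surjective G
    have hF : MvPolynomial.aeval a F ∈ Q' := by
      rw [← Ideal.Quotient.eq_zero_iff_mem, MvPolynomial.aeval_def, MvPolynomial.eval₂_comp_left]
      rw [MvPolynomial.aeval_def, MvPolynomial.eval₂_map] at hG
      exact hG
    ext m
    rw [MvPolynomial.coeff_map, MvPolynomial.coeff_zero, Ideal.Quotient.eq_zero_iff_mem]
    show F.coeff m ∈ (hV.primeIdealOf ⟨f (hU.fromSpec T), hUV hTU⟩).asIdeal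
    rw [hfT]
    exact htind F (by simpa [Q', hprimeT] using hF) m
  have := hli.lift_cardinalMk_le_trdeg
  rw [htr'] at this
  simpa using this

theorem exists_component [UniversallyOpen f] (x : X) {η : Y} (hη : η ⤳ f x) (hmax : ∀ z, z ⤳ η → z = η) :
    ∃ t, t ⤳ x ∧ (∀ z, z ⤳ t → z = t) ∧ f t = η ∧ rd f x ≤ rd f t := by
  obtain ⟨x₁, hx₁, hfx₁, hrd⟩ := exists_lift_rd_ge f x hη
  obtain ⟨t, ht, htmax⟩ := Unibr4.exists_max x₁
  have hft : f t = η := hmax _ (hfx₁ ▸ ht.map f.continuous)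
  refine ⟨t, ht.trans hx₁, htmax, hft, hrd.trans ?_⟩
  rcases eq_or_ne t x₁ with rfl | hne
  · exact le_rfl
  · exact (rd_lt_of_specializes f ht hne (hft.trans hfx₁.symm)).le

theorem condT_of_universallyOpen [UniversallyOpen f] (x : X) :
    ∃ W : TopologicalSpace.Closeds X, (W : Set X) ∈ irreducibleComponents (X : Type u) ∧
      ∃ w : ↥((Scheme.IdealSheafData.vanishingIdeal W).subscheme),
        (Scheme.IdealSheafData.vanishingIdeal W).subschemeι.base w = x ∧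
        EGA43.IsEquidimAt ((Scheme.IdealSheafData.vanishingIdeal W).subschemeι ≫ f) w := by
  obtain ⟨z, hzx, hfz, hzm, hd⟩ := FibGen4.exists_isMaxFib f x
  obtain ⟨η, hη, hmax⟩ := Unibr4.exists_max (f z)
  obtain ⟨t, htz, htmax, hft, hrd⟩ := exists_component f z hη hmax
  refine condT f (htz.trans hzx) htmax (hft.symm ▸ hmax) ?_
  rw [← hd, FibGen4.fibreDimAt_eq_rd_of_isMaxFib f hzm]
  exact_mod_cast hrd

end Groth.Agent.CondT
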